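import Mathlib
import Cfsg.Agent.Lib.Helper44.Frob3.Defs

/-!
# S4427 team project, package [T0]: the trace of an idempotent complex matrix

Also the shared eigenvector lemmas used by package [T].
-/

set_option autoImplicit false

namespace Cfsg.Agent.Lib.Helper70.Frob3

open Matrix Polynomial

/-- A root of the characteristic polynomial of a complex matrix has an eigenvector. -/
theorem exists_eigvec_of_root {n : ℕ} (W : Matrix (Fin n) (Fin n) ℂ) (ν : ℂ)
    (hν : ν ∈ W.charpoly.roots) : ∃ v : Fin n → ℂ, v ≠ 0 ∧ W *ᵥ v = ν • v := by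
  have h1 : W.charpoly.IsRoot ν := (Polynomial.mem_roots'.mp hν).2
  have h2 : (Matrix.scalar (Fin n) ν - W).det = 0 := by
    rw [← Matrix.eval_charpoly]; exact h1
  obtain ⟨v, hv, hv2⟩ := (Matrix.exists_mulVec_eq_zero_iff).mpr h2
  refine ⟨v, hv, ?_⟩
  rw [Matrix.sub_mulVec] at hv2
  have h3 : (Matrix.scalar (Fin n) ν) *ᵥ v = ν • v := by
    ext i
    simp [Matrix.scalar_apply, Matrix.mulVec, dotProduct, Matrix.diagonal_apply]
  rw [h3] at hv2
  exact (sub_eq_zero.mp hv2).symm

/-- Powers of a matrix act on an eigenvector by powers of the eigenvalue. -/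
theorem pow_mulVec_eigvec {n : ℕ} (A : Matrix (Fin n) (Fin n) ℂ) (v : Fin n → ℂ) (μ : ℂ)
    (h : A *ᵥ v = μ • v) (k : ℕ) : (A ^ k) *ᵥ v = μ ^ k • v := by
  induction k with
  | zero => simp
  | succ k ih =>
    rw [pow_succ, ← Matrix.mulVec_mulVec, h, Matrix.mulVec_smul, ih, smul_smul, pow_succ,
      mul_comm]

/-- A sum of `0`s and `1`s is a natural number at most the number of terms. -/
theorem multiset_sum_zero_one (S : Multiset ℂ) (h : ∀ ν ∈ S, ν = 0 ∨ ν = 1) :
    ∃ u : ℕ, u ≤ Multiset.card S ∧ S.sum = (u : ℂ) := by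
  induction S using Multiset.induction_on with
  | empty => exact ⟨0, by simp, by simp⟩
  | cons a S ih =>
    obtain ⟨u, hu, hsum⟩ := ih (fun ν hν => h ν (Multiset.mem_cons_of_mem hν))
    rcases h a (Multiset.mem_cons_self a S) with ha | ha
    · refine ⟨u, ?_, ?_⟩
      · rw [Multiset.card_cons]; omega
      · rw [Multiset.sum_cons, ha, hsum, zero_add]
    · refine ⟨u + 1, ?_, ?_⟩
      · rw [Multiset.card_cons]; omega
      · rw [Multiset.sum_cons, ha, hsum]; push_cast; ring

/-- The number of roots of the characteristic polynomial is at most the size. -/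
theorem card_roots_charpoly_le {n : ℕ} (W : Matrix (Fin n) (Fin n) ℂ) :
    Multiset.card W.charpoly.roots ≤ n := by
  have h1 := Polynomial.card_roots' W.charpoly
  have h2 : W.charpoly.natDegree = n := by
    rw [Matrix.charpoly_natDegree_eq_dim]; simp
  omega

/-- **[T0]** the trace of an idempotent complex matrix is a natural number at most its size. -/
theorem pkgTrace0 : Cfsg.Agent.Lib.Helper44.Frob3.PkgTrace0 := by
  intro n W hW
  have htr : W.trace = W.charpoly.roots.sum := Matrix.trace_eq_sum_roots_charpoly W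
  have hroots : ∀ ν ∈ W.charpoly.roots, ν = 0 ∨ ν = 1 := by
    intro ν hν
    obtain ⟨v, hv, hWv⟩ := exists_eigvec_of_root W ν hν
    have h2 : (W * W) *ᵥ v = (ν * ν) • v := by
      rw [← Matrix.mulVec_mulVec, hWv, Matrix.mulVec_smul, hWv, smul_smul]
    rw [hW, hWv] at h2
    have h3 : (ν - ν * ν) • v = 0 := by
      rw [sub_smul, h2, sub_self]
    rcases smul_eq_zero.mp h3 with h4 | h4
    · have h5 : ν * (1 - ν) = 0 := by linear_combination h4
      rcases mul_eq_zero.mp h5 with h6 | h6
      · exact Or.inl h6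
      · exact Or.inr (by linear_combination -h6)
    · exact absurd h4 hv
  obtain ⟨u, hu, hsum⟩ := multiset_sum_zero_one _ hroots
  exact ⟨u, le_trans hu (card_roots_charpoly_le W), by rw [htr, hsum]⟩

end Cfsg.Agent.Lib.Helper70.Frob3
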