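import Mathlib
import Cfsg.Agent.Lib.Helper44.Frob3.Defs
import Cfsg.Agent.Lib.Helper16.LocalRing
import Cfsg.Agent.Lib.Helper70.Frob3.Trace0

/-!
# S4427 team project, package [T]: the trace congruence
-/

set_option autoImplicit false

namespace Cfsg.Agent.Lib.Helper70.Frob3

open Matrix Polynomial Cfsg Cfsg.Agent.Lib.Helper16

/-- A polynomial in a matrix acts on an eigenvector by the polynomial in the eigenvalue. -/
theorem aeval_mulVec_eigvec {n : ℕ} (A : Matrix (Fin n) (Fin n) ℂ) (v : Fin n → ℂ) (μ : ℂ)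
    (h : A *ᵥ v = μ • v) (P : ℤ[X]) :
    (Polynomial.aeval A P) *ᵥ v = (Polynomial.aeval μ P) • v := by
  induction P using Polynomial.induction_on' with
  | add p q hp hq =>
    rw [map_add, map_add, Matrix.add_mulVec, hp, hq, add_smul]
  | monomial k a =>
    rw [Polynomial.aeval_monomial, Polynomial.aeval_monomial, ← Matrix.mulVec_mulVec,
      pow_mulVec_eigvec A v μ h k]
    ext i
    simp [Matrix.mulVec, dotProduct, Matrix.algebraMap_matrix_apply, mul_assoc]

/-- An eigenvalue of an integral matrix is an algebraic integer. -/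
theorem isIntegral_eigval {n : ℕ} (A : Matrix (Fin n) (Fin n) ℂ) (hA : IsIntegral ℤ A)
    (v : Fin n → ℂ) (hv : v ≠ 0) (μ : ℂ) (h : A *ᵥ v = μ • v) : IsIntegral ℤ μ := by
  obtain ⟨P, hP, hPA⟩ := hA
  refine ⟨P, hP, ?_⟩
  have h1 : (Polynomial.aeval A P) *ᵥ v = (Polynomial.aeval μ P) • v :=
    aeval_mulVec_eigvec A v μ h P
  have h2 : Polynomial.aeval A P = 0 := by
    rw [Polynomial.aeval_def]; exact hPA
  rw [h2, Matrix.zero_mulVec] at h1
  rcases smul_eq_zero.mp h1.symm with h3 | h3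
  · rw [← Polynomial.aeval_def]; exact h3
  · exact absurd h3 hv

/-- `x = a / c` with `a` an algebraic integer and `c` a natural number prime to `p` lies in the
local ring. -/
theorem memLocalRing_of_natCast_mul {p : ℕ} {M : Ideal Cfsg.AlgInt} (hM : Cfsg.IsPModular p M)
    {c : ℕ} (hc : ¬ p ∣ c) {x : ℂ} (hx : IsIntegral ℤ ((c : ℂ) * x)) : MemLocalRing M x := by
  have hc0 : (c : ℂ) ≠ 0 := by
    intro h0
    apply hc
    have : c = 0 := by exact_mod_cast h0
    rw [this]; exact dvd_zero p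
  refine ⟨⟨(c : ℂ) * x, hx⟩, (c : Cfsg.AlgInt), ?_, ?_⟩
  · intro hmem
    exact hc ((natCast_mem_iff hM c).mp hmem)
  · have hcc : (((c : Cfsg.AlgInt) : ℂ)) = (c : ℂ) := by
      push_cast; rfl
    rw [hcc]
    field_simp

/-- The key local step: for a root `ν` of `ν (ν - 1) = q η` in the local ring, either
`(ν - 1) / q` or `ν / q` lies in the local ring. -/
theorem local_step {M : Ideal Cfsg.AlgInt} (hM : M.IsPrime) {ν η q : ℂ} (hq : q ≠ 0)
    (hν : MemLocalRing M ν) (hη : MemLocalRing M η) (h : ν * (ν - 1) = q * η) :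
    ∃ δ : ℕ, δ ≤ 1 ∧ MemLocalRing M ((ν - (δ : ℂ)) / q) := by
  by_cases hI : MemLocalIdeal M ν
  · -- `ν - 1` is a unit
    have h1 : MemLocalRing M (ν - 1) := memLocalRing_sub hM hν (memLocalRing_one hM)
    have h2 : ¬ MemLocalIdeal M (ν - 1) := by
      intro h2
      have h3 := memLocalIdeal_sub hM hI h2
      have h4 : ν - (ν - 1) = 1 := by ring
      rw [h4] at h3
      exact not_memLocalIdeal_one hM h3
    have h5 : ν - 1 ≠ 0 := by
      intro h0
      rw [h0] at h2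
      exact h2 (memLocalIdeal_zero hM)
    refine ⟨0, by omega, ?_⟩
    have h6 : (ν - ((0 : ℕ) : ℂ)) / q = η * (ν - 1)⁻¹ := by
      push_cast
      field_simp
      linear_combination h
    rw [h6]
    exact memLocalRing_mul hM hη (memLocalRing_inv h1 h2)
  · have h5 : ν ≠ 0 := by
      intro h0
      rw [h0] at hI
      exact hI (memLocalIdeal_zero hM)
    refine ⟨1, le_refl 1, ?_⟩
    have h6 : (ν - ((1 : ℕ) : ℂ)) / q = η * ν⁻¹ := by
      push_cast
      field_simp
      linear_combination h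
    rw [h6]
    exact memLocalRing_mul hM hη (memLocalRing_inv hν hI)

/-- Summing the local steps over a multiset. -/
theorem multiset_local_sum {M : Ideal Cfsg.AlgInt} (hM : M.IsPrime) (q : ℂ) (S : Multiset ℂ)
    (h : ∀ ν ∈ S, ∃ δ : ℕ, δ ≤ 1 ∧ MemLocalRing M ((ν - (δ : ℂ)) / q)) :
    ∃ u : ℕ, u ≤ Multiset.card S ∧ MemLocalRing M ((S.sum - (u : ℂ)) / q) := by
  induction S using Multiset.induction_on with
  | empty => exact ⟨0, by simp, by simpa using memLocalRing_zero hM⟩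
  | cons a S ih =>
    obtain ⟨u, hu, hsum⟩ := ih (fun ν hν => h ν (Multiset.mem_cons_of_mem hν))
    obtain ⟨δ, hδ, ha⟩ := h a (Multiset.mem_cons_self a S)
    refine ⟨u + δ, ?_, ?_⟩
    · rw [Multiset.card_cons]; omega
    · have h1 : ((a ::ₘ S).sum - ((u + δ : ℕ) : ℂ)) / q =
          (a - (δ : ℂ)) / q + (S.sum - (u : ℂ)) / q := by
        rw [Multiset.sum_cons]; push_cast; ring
      rw [h1]
      exact memLocalRing_add hM ha hsum

/-- **[T] trace congruence.** -/
theorem pkgTrace : Cfsg.Agent.Lib.Helper44.Frob3.PkgTrace := by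
  intro p M hM n W E c J hc _hJ hW hE hWE
  have hMp : M.IsPrime := isPrime_of_isPModular hM
  have hp0 : (p : ℂ) ≠ 0 := by
    have := hM.1.pos
    exact_mod_cast this.ne'
  have hq : (p : ℂ) ^ J ≠ 0 := pow_ne_zero J hp0
  have hc2 : ¬ p ∣ c ^ 2 := fun h => hc (hM.1.dvd_of_dvd_pow h)
  have htr : W.trace = W.charpoly.roots.sum := Matrix.trace_eq_sum_roots_charpoly W
  have hroots : ∀ ν ∈ W.charpoly.roots,
      ∃ δ : ℕ, δ ≤ 1 ∧ MemLocalRing M ((ν - (δ : ℂ)) / (p : ℂ) ^ J) := by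
    intro ν hν
    obtain ⟨v, hv, hWv⟩ := exists_eigvec_of_root W ν hν
    -- `ν` is in the local ring
    have h1 : ((c : ℂ) • W) *ᵥ v = ((c : ℂ) * ν) • v := by
      rw [Matrix.smul_mulVec, hWv, smul_smul]
    have hν1 : MemLocalRing M ν :=
      memLocalRing_of_natCast_mul hM hc (isIntegral_eigval _ hW v hv _ h1)
    -- the eigenvalue of `E`
    have h2 : (W * W - W) *ᵥ v = (ν * ν - ν) • v := by
      rw [Matrix.sub_mulVec, ← Matrix.mulVec_mulVec, hWv, Matrix.mulVec_smul, hWv, smul_smul,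
        sub_smul]
    rw [hWE, Matrix.smul_mulVec] at h2
    have h3 : E *ᵥ v = ((ν * ν - ν) / (p : ℂ) ^ J) • v := by
      have h4 : E *ᵥ v = ((p : ℂ) ^ J)⁻¹ • ((p : ℂ) ^ J • E *ᵥ v) := by
        rw [smul_smul, inv_mul_cancel₀ hq, one_smul]
      rw [h4, h2, smul_smul]
      congr 1
      field_simp
    have h5 : (((c : ℂ) ^ 2) • E) *ᵥ v = ((c : ℂ) ^ 2 * ((ν * ν - ν) / (p : ℂ) ^ J)) • v := by
      rw [Matrix.smul_mulVec, h3, smul_smul]
    have h6 : IsIntegral ℤ (((c ^ 2 : ℕ) : ℂ) * ((ν * ν - ν) / (p : ℂ) ^ J)) := by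
      have := isIntegral_eigval _ hE v hv _ h5
      push_cast
      exact this
    have hη : MemLocalRing M ((ν * ν - ν) / (p : ℂ) ^ J) :=
      memLocalRing_of_natCast_mul hM hc2 h6
    have h7 : ν * (ν - 1) = (p : ℂ) ^ J * ((ν * ν - ν) / (p : ℂ) ^ J) := by
      rw [mul_div_cancel₀ _ hq]
      ring
    exact local_step hMp hq hν1 hη h7
  obtain ⟨u, hu, hsum⟩ := multiset_local_sum hMp ((p : ℂ) ^ J) _ hroots
  exact ⟨u, le_trans hu (card_roots_charpoly_le W), by rw [htr]; exact hsum⟩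

end Cfsg.Agent.Lib.Helper70.Frob3
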